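import Groth.Agent.FittX.Ideal
import Groth.Agent.FittX.Prod
import Mathlib.LinearAlgebra.Dual.Lemmas
import Mathlib.LinearAlgebra.FreeModule.StrongRankCondition
import Mathlib.LinearAlgebra.InvariantBasisNumber

/-!
# Fitting ideals of a cokernel and of its transpose
-/

set_option autoImplicit false

universe u v w

open Module

namespace Groth.Agent.FittTr

open Groth.Agent.FittX

variable {R : Type u} [CommRing R]

theorem minors_range_dualMap {F : Type v} [AddCommGroup F] [Module R F] {G : Type w} [AddCommGroup G] [Module R G]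
    [Module.IsReflexive R G] (σ : G →ₗ[R] F) (N : ℕ) :
    minors N (LinearMap.range σ.dualMap) = minors N (LinearMap.range σ) := by
  apply le_antisymm <;> rw [minors, Ideal.span_le] <;> rintro d ⟨φ, z, hz, rfl⟩
  · choose ψ hψ using hz
    obtain ⟨y, hy⟩ : ∃ y : Fin N → G, ∀ a, Module.evalEquiv R G (y a) = φ a :=
      ⟨fun a => (Module.evalEquiv R G).symm (φ a), fun a => LinearEquiv.apply_symm_apply _ _⟩
    have : minor φ z = minor ψ (fun a => σ (y a)) := by
      rw [minor, minor, ← Matrix.det_transpose]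
      congr 1
      ext a b
      simp only [Matrix.transpose_apply, Matrix.of_apply]
      rw [← hψ b, ← hy a, Module.evalEquiv_apply]
      rfl
    rw [SetLike.mem_coe, this]
    exact minor_mem ψ fun a => ⟨y a, rfl⟩
  · choose y hy using hz
    have : minor φ z = minor (fun b => Module.Dual.eval R G (y b)) (fun a => σ.dualMap (φ a)) := by
      rw [minor, minor, ← Matrix.det_transpose]
      congr 1
      ext a b
      simp only [Matrix.transpose_apply, Matrix.of_apply]
      rw [← hy b]
      rfl
    rw [SetLike.mem_coe, this]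
    exact minor_mem _ fun a => ⟨φ a, rfl⟩

theorem ideal_of_surjective {M : Type u} [AddCommGroup M] [Module R M] {n : ℕ} (p : (Fin n → R) →ₗ[R] M)
    (hp : Function.Surjective p) (k : ℕ) : Fitt.ideal R M k = minors (n - k) (LinearMap.ker p) := by
  classical
  let x : Fin n → M := fun i => p (Pi.single i 1)
  have hlc : Fintype.linearCombination R x = p :=
    LinearMap.pi_ext' fun i => LinearMap.ext_ring (by simp [x, Fintype.linearCombination_apply, Pi.single_apply])
  have hx : Submodule.span R (Set.range x) = ⊤ := by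
    rw [← Fintype.range_linearCombination, hlc, LinearMap.range_eq_top.mpr hp]
  rw [ideal_eq_minors x hx, rel, hlc]

theorem ideal_coker {m n : ℕ} (σ : (Fin m → R) →ₗ[R] (Fin n → R)) (k : ℕ) :
    Fitt.ideal R ((Fin n → R) ⧸ LinearMap.range σ) k = minors (n - k) (LinearMap.range σ) := by
  rw [ideal_of_surjective _ (Submodule.mkQ_surjective (LinearMap.range σ)), Submodule.ker_mkQ]

theorem ideal_coker_dualMap {m n : ℕ} (σ : (Fin m → R) →ₗ[R] (Fin n → R)) (k : ℕ) :
    Fitt.ideal R (Dual R (Fin m → R) ⧸ LinearMap.range σ.dualMap) k = minors (m - k) (LinearMap.range σ) := by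
  let e : (Fin m → R) ≃ₗ[R] Dual R (Fin m → R) := (Pi.basisFun R (Fin m)).toDualEquiv
  rw [ideal_of_surjective ((LinearMap.range σ.dualMap).mkQ ∘ₗ (e : (Fin m → R) →ₗ[R] Dual R (Fin m → R)))
    ((Submodule.mkQ_surjective _).comp e.surjective), LinearMap.ker_comp, Submodule.ker_mkQ,
    Submodule.comap_equiv_eq_map_symm, minors_map_equiv, minors_range_dualMap]

theorem fitting_shift {m n : ℕ} (σ : (Fin m → R) →ₗ[R] (Fin n → R)) (hmn : m ≤ n) :
    (∀ j : ℕ, Fitt.ideal R ((Fin n → R) ⧸ LinearMap.range σ) (n - m + j) =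
        Fitt.ideal R (Dual R (Fin m → R) ⧸ LinearMap.range σ.dualMap) j) ∧
      ∀ i : ℕ, i < n - m → Fitt.ideal R ((Fin n → R) ⧸ LinearMap.range σ) i = ⊥ := by
  refine ⟨fun j => ?_, fun i hi => ?_⟩
  · rw [ideal_coker, ideal_coker_dualMap, show n - (n - m + j) = m - j by omega]
  · let e : (Fin m → R) ≃ₗ[R] Dual R (Fin m → R) := (Pi.basisFun R (Fin m)).toDualEquiv
    rw [ideal_coker, ← minors_range_dualMap, ← minors_map_equiv e.symm]
    exact minors_eq_bot_of_lt _ (by omega)

theorem le_of_injective [Nontrivial R] {m n : ℕ} (σ : (Fin m → R) →ₗ[R] (Fin n → R)) (hσ : Function.Injective σ) :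
    m ≤ n := le_of_fin_injective R σ hσ

theorem fitting_shift' {m n : ℕ} (σ : (Fin m → R) →ₗ[R] (Fin n → R)) (hσ : Function.Injective σ) :
    (∀ j : ℕ, Fitt.ideal R ((Fin n → R) ⧸ LinearMap.range σ) (n - m + j) =
        Fitt.ideal R (Dual R (Fin m → R) ⧸ LinearMap.range σ.dualMap) j) ∧
      ∀ i : ℕ, i < n - m → Fitt.ideal R ((Fin n → R) ⧸ LinearMap.range σ) i = ⊥ := by
  rcases subsingleton_or_nontrivial R with hR | hR
  · exact ⟨fun j => Subsingleton.elim _ _, fun i _ => Subsingleton.elim _ _⟩
  · exact fitting_shift σ (le_of_injective σ hσ)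

end Groth.Agent.FittTr
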